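import Cfsg.Agent.KFacts.SheetInnerT
import Cfsg.Agent.OddHalf.CaseM.Sheet
import Cfsg.Agent.KFacts.CoTwo.RFin

-- merged: Cfsg.Agent.KFacts.SheetMOfT
section

/-!
# The sheet of case (M) from `SheetInnerT.DataT` (helper902, after helper950's `Th.CaseM`)

`sheetM` : `SheetM (centralizer {z}) Q` for `DataT Q z L`, a prime `p > w` dividing `|L|`, `|Q| ≤ 2 ^ (2 w + 1)`.
-/

set_option autoImplicit false

namespace Cfsg.Agent.KFacts.SheetMOfT

open Cfsg.Agent.KFacts.SheetInnerT Cfsg.Agent.OddHalf.D8.Sheet Cfsg.Agent.OddHalf.CaseM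
open scoped commutatorElement

variable {K : Type*} [Group K] {Q : Subgroup K} {z : K} {L : Type*} [Group L]

/-- normal subgroups of `C_K(z)` above `Q` -/
theorem normal_of_quot [IsSimpleGroup L] (π : Subgroup.centralizer ({z} : Set K) →* L)
    (hs : Function.Surjective π) (hker : ∀ c, π c = 1 ↔ (c : K) ∈ Q) (N : Subgroup K)
    (hN : N ≤ Subgroup.centralizer ({z} : Set K)) (hQ : Q ≤ N)
    (hn : ∀ p ∈ Subgroup.centralizer ({z} : Set K), ∀ n ∈ N, p * n * p⁻¹ ∈ N) :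
    ⁅N, Subgroup.centralizer ({z} : Set K)⁆ ≤ Q ∨ N = Subgroup.centralizer ({z} : Set K) := by
  have h1 : (N.subgroupOf (Subgroup.centralizer ({z} : Set K))).Normal :=
    ⟨fun x hx g => hn g g.2 x hx⟩
  rcases (h1.map π hs).eq_bot_or_eq_top with h2 | h2
  · left
    have h3 : N ≤ Q := by
      intro x hx
      rw [← hker ⟨x, hN hx⟩]
      have h4 : π ⟨x, hN hx⟩ ∈ (N.subgroupOf (Subgroup.centralizer ({z} : Set K))).map π := ⟨_, hx, rfl⟩
      rw [h2, Subgroup.mem_bot] at h4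
      exact h4
    rw [Subgroup.commutator_le]
    intro x hx y hy
    have h4 : x * (y * x⁻¹ * y⁻¹) ∈ N := N.mul_mem hx (hn y hy _ (N.inv_mem hx))
    apply h3
    rw [commutatorElement_def]
    simpa only [mul_assoc] using h4
  · right
    apply le_antisymm hN
    intro x hx
    have h3 : π ⟨x, hx⟩ ∈ (N.subgroupOf (Subgroup.centralizer ({z} : Set K))).map π := by
      rw [h2]; exact Subgroup.mem_top _
    obtain ⟨y, hy, hyx⟩ := h3
    have h4 : π (y⁻¹ * ⟨x, hx⟩) = 1 := by rw [map_mul, map_inv, hyx, inv_mul_cancel]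
    have h5 : (y : K)⁻¹ * x ∈ N := hQ ((hker _).1 h4)
    have h6 : (y : K) * ((y : K)⁻¹ * x) ∈ N := N.mul_mem hy h5
    rwa [mul_inv_cancel_left] at h6

/-- a `p`-element of `C_K(z)` not central modulo `Q` -/
theorem exists_noncentral [Finite K] [IsSimpleGroup L] (π : Subgroup.centralizer ({z} : Set K) →* L)
    (hs : Function.Surjective π) (hker : ∀ c, π c = 1 ↔ (c : K) ∈ Q) (hnab : ∃ a b : L, a * b ≠ b * a)
    {p : ℕ} (hp : p.Prime) (hpL : p ∣ Nat.card L) :
    ∃ x ∈ Subgroup.centralizer ({z} : Set K), ∃ y ∈ Subgroup.centralizer ({z} : Set K),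
    IsPGroup p (Subgroup.zpowers x) ∧ ⁅x, y⁆ ∉ Q := by
  have : Fact p.Prime := ⟨hp⟩
  have : Finite L := Finite.of_surjective π hs
  obtain ⟨b, hb⟩ := exists_prime_orderOf_dvd_card' p hpL
  obtain ⟨c, rfl⟩ := hs b
  obtain ⟨k, m, hm, hk⟩ := Nat.exists_eq_pow_mul_and_not_dvd (orderOf_pos c).ne' p hp.ne_one
  have h1 : π (c ^ m) ≠ 1 := by
    intro h2
    rw [map_pow] at h2
    exact hm (hb ▸ orderOf_dvd_of_pow_eq_one h2)
  have hcen : ∃ y : L, π (c ^ m) * y ≠ y * π (c ^ m) := by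
    by_contra hcon
    push Not at hcon
    have h2 : π (c ^ m) ∈ Subgroup.center L := Subgroup.mem_center_iff.2 fun g => (hcon g).symm
    rcases (inferInstance : (Subgroup.center L).Normal).eq_bot_or_eq_top with h3 | h3
    · rw [h3, Subgroup.mem_bot] at h2
      exact h1 h2
    · obtain ⟨a, b, hab⟩ := hnab
      have h4 : b ∈ Subgroup.center L := by rw [h3]; exact Subgroup.mem_top _
      exact hab (Subgroup.mem_center_iff.1 h4 a)
  obtain ⟨y0, hy0⟩ := hcen
  obtain ⟨y, rfl⟩ := hs y0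
  refine ⟨_, (c ^ m).2, _, y.2, ?_, ?_⟩
  · apply IsPGroup.of_card (n := k)
    rw [Nat.card_zpowers, Subgroup.orderOf_coe, orderOf_pow, hk]
    rw [Nat.gcd_eq_right (dvd_mul_left m (p ^ k)), Nat.mul_div_cancel]
    exact Nat.pos_of_ne_zero fun h => hm (h ▸ dvd_zero p)
  · intro h2
    have h3 : π ⁅c ^ m, y⁆ = 1 := (hker _).2 h2
    rw [map_commutatorElement, commutatorElement_eq_one_iff_mul_comm] at h3
    exact hy0 h3

/-- `SheetM` for `DataT` -/
theorem sheetM [Finite K] (D : DataT Q z L) {p w : ℕ} (hp : p.Prime) (hw : w < p)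
    (hpL : p ∣ Nat.card L) (hcard : Nat.card Q ≤ 2 ^ (2 * w + 1)) :
    SheetM (Subgroup.centralizer ({z} : Set K)) Q := by
  have := D.simple
  obtain ⟨π, hs, hker⟩ := D.quot
  obtain ⟨x, hx, y, hy, hxp, hxy⟩ := exists_noncentral π hs hker D.nonab hp hpL
  refine SheetM.of_quasisimple D.sheet (normal_of_quot π hs hker) hp hw hcard hx hxp hy hxy ⟨0, ?_⟩ ⟨0, ?_⟩
  · rw [pow_zero, Subgroup.index_eq_one, MonoidHom.range_eq_top]
    intro α
    obtain ⟨k, hk⟩ := D.allInner α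
    exact ⟨k, hk.symm⟩
  · rw [pow_zero, Subgroup.relIndex_self]

end Cfsg.Agent.KFacts.SheetMOfT

end

-- merged: Cfsg.Agent.KFacts.CoTwo.Sheets
section

/-!
# The two sheets of `Spor.Co2` from `DataT` (helper902)
-/

set_option autoImplicit false

namespace Cfsg.Agent.KFacts.CoTwo.Sheets

open Cfsg Cfsg.Agent.Co2Type.TData Cfsg.Agent.Co2Type.FactsD
open Cfsg.Agent.KFacts.CoTwo.RSub Cfsg.Agent.KFacts.CoTwo.RLarge Cfsg.Agent.KFacts.CoTwo.RFin
open Cfsg.Agent.KFacts.SheetInnerT Cfsg.Agent.OddHalf.D8.Sheet Cfsg.Agent.OddHalf.CaseM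

/-- `5 ∣ |L|` -/
theorem five_dvd_quot {L : Type*} [Group L] (D : DataT R (ge mz) L) : 5 ∣ Nat.card L := by
  obtain ⟨π, hs, hker⟩ := D.quot
  have h1 : Nat.card (Subgroup.centralizer ({ge mz} : Set Spor.Co2)) = Nat.card π.ker * Nat.card L := by
    rw [← Subgroup.card_mul_index π.ker, Subgroup.index_ker, MonoidHom.range_eq_top.2 hs, Subgroup.card_top]
  have h2 : π.ker = R.subgroupOf (Subgroup.centralizer ({ge mz} : Set Spor.Co2)) := by
    ext c
    rw [MonoidHom.mem_ker, hker, Subgroup.mem_subgroupOf]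
  have hle : R ≤ Subgroup.centralizer ({ge mz} : Set Spor.Co2) := R_le_P
  have h3 : Nat.card π.ker = 2 ^ 9 := by
    rw [h2, Nat.card_congr (Subgroup.subgroupOfEquivOfLe hle).toEquiv, card_R]
  have h4 := five_dvd
  rw [h1, h3] at h4
  exact (Nat.Coprime.dvd_mul_left (by norm_num : Nat.Coprime 5 (2 ^ 9))).1 h4

theorem sheets [Finite Spor.Co2] {L : Type*} [Group L] (D : DataT R (ge mz) L) :
    SheetE (ge mz) (Subgroup.centralizer ({ge mz} : Set Spor.Co2)) R ∧
      SheetM (Subgroup.centralizer ({ge mz} : Set Spor.Co2)) R :=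
  ⟨D.sheet, Cfsg.Agent.KFacts.SheetMOfT.sheetM D (p := 5) (w := 4) (by norm_num) (by norm_num) (five_dvd_quot D)
    (by rw [card_R])⟩

end Cfsg.Agent.KFacts.CoTwo.Sheets

end
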